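import Cfsg.Agent.TISylow.SmallDegree
import Cfsg.Agent.FGSA.AbelianSylowLength
import Cfsg.Agent.Solvable.CoprimeAct
import Cfsg.Prelude.Def_Local

/-!
A `p`-solvable group with a TI Sylow `p`-subgroup of order at least the squared degree of a
faithful representation has this Sylow subgroup normal.
-/

set_option autoImplicit false
set_option linter.style.haveILetI false

namespace CfsgLib.TISylow

open Subgroup Pointwise Module CfsgLib.Solvable

theorem normal_of_small_degree {G : Type*} [Group G] [Finite G] (p : ℕ) [Fact p.Prime]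
    (hsolv : Cfsg.IsPSolvable p G) (P : Sylow p G)
    (hTI : ∀ g : G, g ∉ normalizer ((P : Subgroup G) : Set G) →
      (P : Subgroup G) ⊓ (MulAut.conj g • (P : Subgroup G)) = ⊥)
    {V : Type*} [AddCommGroup V] [Module ℂ V] [FiniteDimensional ℂ V] (ρ : G →* Module.End ℂ V)
    (hρ : Function.Injective ρ) (hdeg : finrank ℂ V ^ 2 ≤ Nat.card (P : Subgroup G)) :
    (P : Subgroup G).Normal := by
  classical
  set S := (P : Subgroup G) with hS
  by_contra hnn
  have hne : S ≠ ⊥ := fun h => hnn (by rw [h]; infer_instance)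
  obtain ⟨g₀, hg₀⟩ : ∃ g, g ∉ normalizer (S : Set G) := by
    by_contra h
    push Not at h
    exact hnn (normalizer_eq_top_iff.1 (eq_top_iff.2 fun g _ => h g))
  have h0 : Cfsg.pCore p G = ⊥ := by
    have h1 : Cfsg.pCore p G ≤ S ⊓ MulAut.conj g₀ • S :=
      le_inf (IsPGroup.le_sylow_of_normal (N := Cfsg.pCore p G) (isPGroup_pCore p) P)
        (IsPGroup.le_sylow_of_normal (N := Cfsg.pCore p G) (isPGroup_pCore p) (g₀ • P))
    rwa [hTI g₀ hg₀, le_bot_iff] at h1
  have hCK := FGSA.AbelianSylow.centralizer_pPrimeCore_le h0 hsolv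
  set K := Cfsg.pPrimeCore p G with hK
  obtain ⟨k, hk⟩ := IsPGroup.iff_card.1 P.2
  have hcop : (Nat.card S).Coprime (Nat.card K) := by
    rw [hS, hk]; exact Nat.Coprime.pow_left _ (coprime_card_pPrimeCore p).symm
  have hSK : S ⊓ K = ⊥ := (disjoint_iff.1 (disjoint_of_coprime_natCard hcop))
  have hSnK : S ≤ normalizer (K : Set G) := by
    rw [normalizer_eq_top K]; exact le_top
  haveI hSs : Group.IsSolvable S := by
    haveI := P.2.isNilpotent
    infer_instance
  -- some invariant Sylow subgroup of the core is moved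
  obtain ⟨q, hq, Q, hQn, hQ⟩ : ∃ (q : ℕ) (_ : Fact q.Prime) (Q : Sylow q K),
      S ≤ normalizer (((Q : Subgroup K).map K.subtype : Subgroup G) : Set G) ∧
      ¬ S ≤ centralizer (((Q : Subgroup K).map K.subtype : Subgroup G) : Set G) := by
    by_contra hcon
    push Not at hcon
    have hex : ∀ q : Nat.Primes, ∃ Q : Sylow (q : ℕ) K,
        S ≤ normalizer (((Q : Subgroup K).map K.subtype : Subgroup G) : Set G) := fun q =>
      haveI : Fact (q : ℕ).Prime := ⟨q.2⟩
      CoprimeAct.exists_invariant_sylow hSnK hcop (Or.inl hSs) q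
    choose Qs hQs using hex
    have hle : K ≤ centralizer (S : Set G) := by
      have h1 := iSup_sylow_eq_top Qs
      calc K = (⊤ : Subgroup K).map K.subtype := by rw [← MonoidHom.range_eq_map, range_subtype]
        _ ≤ centralizer (S : Set G) := by
          rw [← h1, Subgroup.map_iSup]
          refine iSup_le fun q => ?_
          haveI : Fact (q : ℕ).Prime := ⟨q.2⟩
          exact le_centralizer_iff.1 (hcon q ⟨q.2⟩ (Qs q) (hQs q))
    exact hne (le_bot_iff.1 (hSK ▸ le_inf le_rfl ((le_centralizer_iff.1 hle).trans hCK)))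
  set Q' := (Q : Subgroup K).map K.subtype with hQ'
  -- minimal such subgroup
  obtain ⟨M, ⟨hMQ, hMn, hMc⟩, hmin⟩ := exists_minimalFor_of_wellFoundedLT
    (fun M : Subgroup G => M ≤ Q' ∧ S ≤ normalizer (M : Set G) ∧ ¬ S ≤ centralizer (M : Set G))
    (fun M : Subgroup G => Nat.card M) ⟨Q', le_rfl, hQn, hQ⟩
  have hMK : M ≤ K := hMQ.trans (map_subtype_le _)
  have hMq : IsPGroup q M := (Q.2.map K.subtype).to_le hMQ
  letI : MulDistribMulAction S M := MulDistribMulAction.compHom M (M.normalizerMonoidHom.comp (inclusion hMn))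
  have hsm : ∀ (x : S) (z : M), ((x • z : M) : G) = (x : G) * z * (x : G)⁻¹ := fun x z => rfl
  have C : Config S M :=
    { cop := hcop.coprime_dvd_right (card_dvd_of_le hMK)
      solv := hSs
      moved := by
        by_contra h
        push Not at h
        refine hMc fun x hx => mem_centralizer_iff.2 fun z hz => ?_
        have h1 := congrArg Subtype.val (h ⟨x, hx⟩ ⟨z, hz⟩)
        rw [hsm] at h1
        exact (mul_inv_eq_iff_eq_mul.1 h1).symm
      nil := hMq.isNilpotent
      semireg := fun x hx z hz y => Subtype.ext (by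
        rw [hsm]
        have h1 : (x : G) * z = z * x := by
          have h2 := congrArg Subtype.val hz
          rw [hsm] at h2
          exact mul_inv_eq_iff_eq_mul.1 h2
        have hzN : (z : G) ∈ normalizer (S : Set G) := by
          by_contra hzN
          refine hx (Subtype.ext (Subgroup.mem_bot.1 (hTI z hzN ▸ mem_inf.2 ⟨x.2, ?_⟩)))
          rw [mem_pointwise_smul_iff_inv_smul_mem]
          show (MulAut.conj (z : G))⁻¹ (x : G) ∈ S
          rw [← map_inv, MulAut.conj_apply, inv_inv, mul_assoc, h1, inv_mul_cancel_left]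
          exact x.2
        have h3 := CoprimeAct.mem_centralizer_of_normalizes hSnK hcop (hMK z.2) hzN
        rw [mem_centralizer_iff.1 h3 y y.2, mul_inv_cancel_right])
      hmin := fun M' hM' hinv x z hz => Subtype.ext (by
        rw [hsm]
        by_contra hne'
        have hlt : Nat.card (M'.map M.subtype) < Nat.card M := by
          rw [card_map_of_injective M.subtype_injective]
          exact card_lt_of_ne_top hM'
        refine hlt.not_ge (hmin ⟨(map_subtype_le _).trans hMQ, fun u hu => ?_, fun hc => hne' ?_⟩ hlt.le)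
        · rw [mem_normalizer_iff_map_conj_eq]
          refine Subgroup.eq_of_le_of_card_ge ?_ (card_map_of_injective (MulAut.conj u).injective).ge
          rintro _ ⟨_, ⟨w, hw, rfl⟩, rfl⟩
          exact ⟨_, hinv ⟨u, hu⟩ w hw, hsm _ _⟩
        · have h5 := mem_centralizer_iff.1 (hc x.2) _ ⟨z, hz, rfl⟩
          rw [coe_subtype] at h5
          rw [← h5, mul_inv_cancel_right]) }
  have h := C.card_lt (V := V) (ρ.comp M.subtype) (hρ.comp M.subtype_injective) (ρ.comp S.subtype) fun x z => by
    simp only [MonoidHom.comp_apply, coe_subtype, ← map_mul, hsm, inv_mul_cancel_right]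
  omega

end CfsgLib.TISylow
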