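import Cfsg.Agent.PQFpf.Form
import Cfsg.Agent.PQFpf.Weights
import Cfsg.Agent.Coprime.Sylow
import Mathlib.GroupTheory.Nilpotent
import Mathlib.Analysis.Complex.Polynomial.Basic

/-!
A group of operators acting semiregularly modulo its fixed points on a minimal group of coprime
prime power order forces a faithful representation of degree above the square root of its order.
-/

set_option autoImplicit false
set_option linter.style.haveILetI false
set_option linter.unusedSectionVars false

namespace CfsgLib.TISylow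

open CfsgLib.PQFpf Module
open scoped commutatorElement IsMulCommutative

variable {P Q : Type*} [Group P] [Finite P] [Group Q] [Finite Q] [MulDistribMulAction P Q]

/-- The configuration. -/
structure Config (P Q : Type*) [Group P] [Group Q] [MulDistribMulAction P Q] where
  cop : (Nat.card P).Coprime (Nat.card Q)
  solv : Group.IsSolvable P
  moved : ∃ (x : P) (z : Q), x • z ≠ z
  nil : Group.IsNilpotent Q
  semireg : ∀ x : P, x ≠ 1 → ∀ z : Q, x • z = z → ∀ y : P, y • z = z
  hmin : ∀ M : Subgroup Q, M ≠ ⊤ → (∀ (x : P), ∀ z ∈ M, x • z ∈ M) → ∀ (x : P), ∀ z ∈ M, x • z = z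

namespace Config

variable (C : Config P Q)

include C in
theorem eq_one_of_pow {z : Q} (hz : z ^ Nat.card P = 1) : z = 1 := by
  have h1 : z ^ Nat.card Q = 1 := pow_card_eq_one'
  have h2 := pow_gcd_eq_one.2 ⟨hz, h1⟩
  rwa [C.cop.gcd_eq_one, pow_one] at h2

include C in
theorem gen_eq_top : Subgroup.closure {y : Q | ∃ (x : P) (z : Q), z⁻¹ * x • z = y} = ⊤ := by
  set N := Subgroup.closure {y : Q | ∃ (x : P) (z : Q), z⁻¹ * x • z = y}
  by_contra hN
  obtain ⟨x, z, hxz⟩ := C.moved
  have hfix := C.hmin N hN fun x w hw => by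
    induction hw using Subgroup.closure_induction with
    | mem w hw =>
      obtain ⟨u, z, rfl⟩ := hw
      refine Subgroup.subset_closure ⟨x * u * x⁻¹, x • z, ?_⟩
      rw [smul_smul, inv_mul_cancel_right, mul_smul, smul_mul', smul_inv']
    | one => rw [smul_one]; exact N.one_mem
    | mul a b _ _ ha hb => rw [smul_mul']; exact N.mul_mem ha hb
    | inv a _ ha => rw [smul_inv']; exact N.inv_mem ha
  have hd := hfix x _ (Subgroup.subset_closure ⟨x, z, rfl⟩)
  have hn : ∀ n : ℕ, x ^ n • z = z * (z⁻¹ * x • z) ^ n := by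
    intro n
    induction n with
    | zero => simp
    | succ n ih => rw [pow_succ', mul_smul, ih, smul_mul', smul_pow', hd, pow_succ', ← mul_assoc z, mul_inv_cancel_left]
  have h2 := hn (Nat.card P)
  rw [pow_card_eq_one', one_smul] at h2
  exact hxz (inv_mul_eq_one.1 (C.eq_one_of_pow (left_eq_mul.1 h2))).symm

include C in
theorem inv_hom_trivial {M : Type*} [CommGroup M] (g : Q →* M) (hg : ∀ (x : P) z, g (x • z) = g z) : g = 1 := by
  refine MonoidHom.ext fun w => (Subgroup.closure_le (K := g.ker)).2 ?_ (C.gen_eq_top.ge (Subgroup.mem_top w))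
  rintro _ ⟨x, z, rfl⟩
  rw [SetLike.mem_coe, MonoidHom.mem_ker, map_mul, map_inv, hg, inv_mul_cancel]

include C in
theorem central_of_fixed {N : Subgroup Q} [hN : N.Normal] (hfix : ∀ (x : P), ∀ z ∈ N, x • z = z) :
    N ≤ Subgroup.center Q := by
  intro z hz
  rw [Subgroup.mem_center_iff]
  intro g
  have h := (Subgroup.closure_le (K := Subgroup.centralizer (N : Set Q))).2 ?_ (C.gen_eq_top.ge (Subgroup.mem_top g))
  · exact (Subgroup.mem_centralizer_iff.1 h z hz).symm
  rintro _ ⟨x, y, rfl⟩
  refine Subgroup.mem_centralizer_iff.2 fun u hu => ?_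
  have h2 : x • y * u * (x • y)⁻¹ = y * u * y⁻¹ := by
    have h3 := hfix x _ (hN.conj_mem u hu y)
    rw [smul_mul', smul_mul', smul_inv', hfix x u hu] at h3
    exact h3
  calc u * (y⁻¹ * x • y) = y⁻¹ * (y * u * y⁻¹) * x • y := by group
    _ = y⁻¹ * (x • y * u * (x • y)⁻¹) * x • y := by rw [h2]
    _ = y⁻¹ * x • y * u := by group

include C in
theorem not_subsingleton : ¬ Subsingleton Q := fun h => by
  obtain ⟨x, z, hxz⟩ := C.moved
  exact hxz (Subsingleton.elim _ _)

include C in
theorem commutator_central (a b : Q) : ⁅a, b⁆ ∈ Subgroup.center Q := by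
  haveI := C.nil
  haveI : Nontrivial Q := not_subsingleton_iff_nontrivial.1 C.not_subsingleton
  have hlt : commutator Q ≠ ⊤ := (Group.IsSolvable.commutator_lt_top_of_nontrivial (G := Q)).ne
  exact C.central_of_fixed (C.hmin _ hlt (Coprime.IsInvariant.of_characteristic (A := P) _))
    (Subgroup.commutator_mem_commutator (Subgroup.mem_top a) (Subgroup.mem_top b))

include C in
/-- A homomorphism fixed by a nontrivial operator is trivial, in the commutative case. -/
theorem hom_moved (hab : ∀ a b : Q, a * b = b * a) {M : Type*} [CommGroup M] (g : Q →* M) {x : P} (hx : x ≠ 1)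
    (hg : ∀ z, g (x • z) = g z) : g = 1 := by
  classical
  haveI := Fintype.ofFinite P
  letI : CommGroup Q := { (inferInstance : Group Q) with mul_comm := hab }
  -- common fixed points are trivial
  have hfix : ∀ z : Q, (∀ y : P, y • z = z) → z = 1 := by
    let ν : Q →* Q := MonoidHom.mk' (fun z => ∏ y : P, y • z) fun a b => by
      simp [smul_mul', Finset.prod_mul_distrib]
    intro z hz
    have h1 : ν z = 1 := by
      refine (Subgroup.closure_le (K := ν.ker)).2 ?_ (C.gen_eq_top.ge (Subgroup.mem_top z))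
      rintro _ ⟨u, w, rfl⟩
      show ∏ y : P, y • (w⁻¹ * u • w) = 1
      simp only [smul_mul', smul_inv', Finset.prod_mul_distrib, Finset.prod_inv_distrib, ← mul_smul]
      rw [inv_mul_eq_one]
      exact (Equiv.prod_comp (Equiv.mulRight u) fun y => y • w).symm
    refine C.eq_one_of_pow ?_
    rw [← h1, Nat.card_eq_fintype_card]
    show _ = ∏ y : P, y • z
    simp [hz]
  have hinj : Function.Injective fun z : Q => z⁻¹ * x • z := by
    intro a b h
    have h1 : x • (b * a⁻¹) = b * a⁻¹ := by
      simp only at h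
      rw [smul_mul', smul_inv', mul_inv_eq_iff_eq_mul]
      calc x • b = b * (b⁻¹ * x • b) := by group
        _ = b * (a⁻¹ * x • a) := by rw [h]
        _ = b * a⁻¹ * x • a := by group
    exact (mul_inv_eq_one.1 (hfix _ (C.semireg x hx _ h1))).symm
  refine MonoidHom.ext fun w => ?_
  obtain ⟨z, rfl⟩ := Finite.surjective_of_injective hinj w
  simp [hg]

/-- The main bound. -/
theorem card_lt {V : Type*} [AddCommGroup V] [Module ℂ V] [FiniteDimensional ℂ V] (C : Config P Q)
    (ρ : Q →* Module.End ℂ V) (hρ : Function.Injective ρ) (α : P →* Module.End ℂ V)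
    (hα : ∀ x z, α x * ρ z = ρ (x • z) * α x) : Nat.card P < finrank ℂ V ^ 2 := by
  classical
  haveI := Fintype.ofFinite P
  have hk : ∀ {X : Type _} [Group X] [Finite X], (Nat.card X : ℂ) ≠ 0 := fun {X} _ _ => Nat.cast_ne_zero.2 Nat.card_pos.ne'
  have hαinv : ∀ x (v : V), α x⁻¹ (α x v) = v := fun x v => by
    rw [← Module.End.mul_apply, ← map_mul, inv_mul_cancel, map_one, Module.End.one_apply]
  by_cases hab : ∀ a b : Q, a * b = b * a
  · -- a regular orbit of weights
    obtain ⟨χ, v, hv, hv0, hχ⟩ : ∃ (χ : Q →* ℂˣ) (v : V), IsWeight ρ χ v ∧ v ≠ 0 ∧ χ ≠ 1 := by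
      by_contra hcon
      push Not at hcon
      refine C.not_subsingleton ⟨fun a b => hρ ?_⟩
      have h1 : ∀ a, ρ a = 1 := fun a => eq_one_of_weights ρ (fun u w => by rw [hab]) hk a fun χ v hv hv0 => by
        rw [hcon χ v hv hv0]; rfl
      rw [h1, h1]
    let χs : P → Q →* ℂˣ := fun x => χ.comp (MulDistribMulAction.toMonoidHom Q x⁻¹)
    have hwt : ∀ x, IsWeight ρ (χs x) (α x v) := fun x => isWeight_op hα hv x
    have hdist : ∀ x y, χs x = χs y → x = y := by
      intro x y h
      by_contra hne
      have hne' : x⁻¹ * y ≠ 1 := fun h1 => hne (inv_mul_eq_one.1 h1)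
      refine hχ (C.hom_moved hab χ hne' fun z => ?_)
      have h1 := DFunLike.congr_fun h (y • z)
      simp only [χs, MonoidHom.comp_apply, MulDistribMulAction.toMonoidHom_apply, ← mul_smul, inv_mul_cancel,
        one_smul] at h1
      exact h1
    haveI := Fintype.ofFinite Q
    have hc : (Fintype.card Q : ℂ) ≠ 0 := Nat.cast_ne_zero.2 Fintype.card_ne_zero
    let L : (P → ℂ) →ₗ[ℂ] V :=
      { toFun := fun c => ∑ x, c x • α x v
        map_add' := fun c c' => by simp [add_smul, Finset.sum_add_distrib]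
        map_smul' := fun a c => by simp [mul_smul, Finset.smul_sum] }
    have hL : Function.Injective L := (injective_iff_map_eq_zero L).2 fun c hc0 => funext fun x => by
      have h1 := congrArg (wproj ρ (χs x)) hc0
      simp only [L, LinearMap.coe_mk, AddHom.coe_mk, map_sum, map_smul, map_zero] at h1
      rw [Finset.sum_eq_single x] at h1
      · rw [wproj_self hc (hwt x)] at h1
        exact (smul_eq_zero.1 h1).resolve_right fun h2 => hv0 (by rw [← hαinv x v, h2, map_zero])
      · intro y _ hy
        rw [wproj_other (hwt y) fun h2 => hy (hdist x y h2).symm, smul_zero]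
      · simp
    have h1 := LinearMap.finrank_le_finrank_of_injective hL
    rw [Module.finrank_fintype_fun_eq_card, ← Nat.card_eq_fintype_card] at h1
    have h2 : 1 < Nat.card P := by
      obtain ⟨x, z, hxz⟩ := C.moved
      haveI : Nontrivial P := ⟨⟨x, 1, fun h => hxz (by rw [h, one_smul])⟩⟩
      exact Finite.one_lt_card
    calc Nat.card P < Nat.card P ^ 2 := by rw [sq]; exact Nat.lt_mul_self_iff.2 h2
      _ ≤ finrank ℂ V ^ 2 := Nat.pow_le_pow_left h1 2
  · -- the commutator form of a central weight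
    have hcc := C.commutator_central
    have hZne : Subgroup.center Q ≠ ⊤ := fun h => hab fun a b => Subgroup.mem_center_iff.1 (h.ge (Subgroup.mem_top b)) a
    have hZfix := C.hmin _ hZne (Coprime.IsInvariant.of_characteristic (A := P) _)
    obtain ⟨a₀, b₀, hab₀⟩ : ∃ a b : Q, a * b ≠ b * a := by
      by_contra h
      push Not at h
      exact hab h
    let ρZ : Subgroup.center Q →* Module.End ℂ V := ρ.comp (Subgroup.center Q).subtype
    obtain ⟨μ, v, hv, hv0, hμ⟩ : ∃ (μ : Subgroup.center Q →* ℂˣ) (v : V), IsWeight ρZ μ v ∧ v ≠ 0 ∧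
        μ ⟨⁅a₀, b₀⁆, hcc _ _⟩ ≠ 1 := by
      by_contra hcon
      push Not at hcon
      refine hab₀ (commutatorElement_eq_one_iff_mul_comm.1 (hρ ?_))
      rw [map_one]
      exact eq_one_of_weights ρZ (fun u w => by rw [mul_comm]) hk ⟨⁅a₀, b₀⁆, hcc _ _⟩ fun μ v hv hv0 => hcon μ v hv hv0
    have hbr : ∀ a b c : Q, ⁅a * b, c⁆ = ⁅a, c⁆ * ⁅b, c⁆ := fun a b c => by
      have h := Subgroup.mem_center_iff.1 (hcc b c) a
      calc ⁅a * b, c⁆ = a * ⁅b, c⁆ * a⁻¹ * ⁅a, c⁆ := by simp only [commutatorElement_def]; group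
        _ = ⁅b, c⁆ * ⁅a, c⁆ := by rw [h, mul_inv_cancel_right]
        _ = ⁅a, c⁆ * ⁅b, c⁆ := (Subgroup.mem_center_iff.1 (hcc b c) ⁅a, c⁆).symm
    have hbl : ∀ a b c : Q, ⁅a, b * c⁆ = ⁅a, b⁆ * ⁅a, c⁆ := fun a b c => by
      have h := Subgroup.mem_center_iff.1 (hcc a c) b
      calc ⁅a, b * c⁆ = ⁅a, b⁆ * (b * ⁅a, c⁆ * b⁻¹) := by simp only [commutatorElement_def]; group
        _ = ⁅a, b⁆ * ⁅a, c⁆ := by rw [h, mul_inv_cancel_right]
    let form : Q →* (Q →* ℂˣ) := MonoidHom.mk'
      (fun a => MonoidHom.mk' (fun b => μ ⟨⁅a, b⁆, hcc a b⟩) fun b c => by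
        rw [← map_mul]; exact congrArg μ (Subtype.ext (hbl a b c)))
      fun a b => MonoidHom.ext fun c => by
        show μ _ = μ _ * μ _
        rw [← map_mul]; exact congrArg μ (Subtype.ext (hbr a b c))
    have hform : ∀ a b, form a b = μ ⟨⁅a, b⁆, hcc a b⟩ := fun a b => rfl
    have hflip : ∀ a b, form a b = (form b a)⁻¹ := fun a b => by
      rw [hform, hform, ← map_inv]
      exact congrArg μ (Subtype.ext (commutatorElement_inv b a).symm)
    let R := form.ker
    have hRmem : ∀ a, a ∈ R ↔ ∀ b, form a b = 1 := fun a => by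
      rw [MonoidHom.mem_ker, MonoidHom.ext_iff]; rfl
    have hPform : ∀ (x : P) a b, form (x • a) (x • b) = form a b := fun x a b => by
      rw [hform, hform]
      refine congrArg μ (Subtype.ext ?_)
      exact (map_commutatorElement (MulDistribMulAction.toMonoidHom Q x) a b).symm.trans (hZfix x _ (hcc a b))
    have hRi : Coprime.IsInvariant P R := fun x a ha => (hRmem _).2 fun b => by
      rw [← smul_inv_smul x b, hPform]
      exact (hRmem a).1 ha _
    -- fixed points lie in the radical
    have hfixR : ∀ c : Q, (∀ x : P, x • c = c) → c ∈ R := fun c hc => by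
      refine (hRmem c).2 fun b => DFunLike.congr_fun (C.inv_hom_trivial (form c) fun x z => ?_) b
      conv_lhs => rw [← hc x]
      exact hPform x c z
    -- weights of the radical
    let W1 : Submodule ℂ V :=
      { carrier := {w | IsWeight ρZ μ w}
        add_mem' := fun {a b} ha hb z => by rw [map_add, ha z, hb z, smul_add]
        zero_mem' := fun z => by rw [map_zero, smul_zero]
        smul_mem' := fun c a ha z => by rw [map_smul, ha z, smul_comm] }
    have hW1 : ∀ a, ∀ w ∈ W1, ρ a w ∈ W1 := fun a w hw z => by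
      show ρ (z : Q) (ρ a w) = _
      rw [← Module.End.mul_apply, ← map_mul, ← Subgroup.mem_center_iff.1 z.2 a, map_mul, Module.End.mul_apply]
      show ρ a (ρZ z w) = _
      rw [hw z, map_smul]
    let ρR : R →* Module.End ℂ W1 :=
      { toFun := fun u => (ρ (u : Q)).restrict (hW1 u)
        map_one' := LinearMap.ext fun w => Subtype.ext (by
          show ρ ((1 : R) : Q) (w : V) = w
          rw [Subgroup.coe_one, map_one]; rfl)
        map_mul' := fun a b => LinearMap.ext fun w => Subtype.ext (by
          show ρ ((a * b : R) : Q) (w : V) = ρ (a : Q) (ρ (b : Q) w)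
          rw [Subgroup.coe_mul, map_mul]; rfl) }
    have hRcomm : ∀ a b : R, ρR (a * b) = ρR (b * a) := fun a b => LinearMap.ext fun w => Subtype.ext (by
      show ρ ((a : Q) * b) (w : V) = ρ ((b : Q) * a) w
      rw [show (a : Q) * b = ⁅(a : Q), (b : Q)⁆ * ((b : Q) * a) by simp only [commutatorElement_def]; group, map_mul,
        Module.End.mul_apply]
      rw [show ρ ⁅(a : Q), (b : Q)⁆ (ρ ((b : Q) * a) w) = _ from hW1 _ _ w.2 ⟨_, hcc a b⟩, ← hform,
        (hRmem _).1 a.2, Units.val_one, one_smul])
    haveI : Nontrivial W1 := ⟨⟨⟨v, hv⟩, 0, fun h => hv0 (congrArg Subtype.val h)⟩⟩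
    obtain ⟨ν, v1, hv1, hv10⟩ := exists_weight ρR hRcomm hk
    let W2 : Submodule ℂ V :=
      { carrier := {w | IsWeight ρZ μ w ∧ ∀ u : R, ρ (u : Q) w = ((ν u : ℂˣ) : ℂ) • w}
        add_mem' := fun {a b} ha hb => ⟨fun z => by rw [map_add, ha.1 z, hb.1 z, smul_add],
          fun u => by rw [map_add, ha.2 u, hb.2 u, smul_add]⟩
        zero_mem' := ⟨fun z => by rw [map_zero, smul_zero], fun u => by rw [map_zero, smul_zero]⟩
        smul_mem' := fun c a ha => ⟨fun z => by rw [map_smul, ha.1 z, smul_comm],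
          fun u => by rw [map_smul, ha.2 u, smul_comm]⟩ }
    have hW2 : ∀ a, ∀ w ∈ W2, ρ a w ∈ W2 := fun a w hw => ⟨hW1 a w hw.1, fun u => by
      rw [← Module.End.mul_apply, ← map_mul, show (u : Q) * a = ⁅(u : Q), a⁆ * (a * u) by
        simp only [commutatorElement_def]; group, map_mul, map_mul, Module.End.mul_apply, Module.End.mul_apply, hw.2 u,
        map_smul, map_smul, show ρ ⁅(u : Q), a⁆ (ρ a w) = _ from hW1 a w hw.1 ⟨_, hcc u a⟩, ← hform,
        (hRmem _).1 u.2, Units.val_one, one_smul]⟩
    haveI : Nontrivial W2 := ⟨⟨⟨(v1 : V), v1.2, fun u => congrArg Subtype.val (hv1 u)⟩, 0,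
      fun h => hv10 (Subtype.ext (congrArg Subtype.val h :))⟩⟩
    let π2 : Q →* Module.End ℂ W2 :=
      { toFun := fun a => (ρ a).restrict (hW2 a)
        map_one' := LinearMap.ext fun w => Subtype.ext (by
          show ρ 1 (w : V) = w
          rw [map_one]; rfl)
        map_mul' := fun a b => LinearMap.ext fun w => Subtype.ext (by
          show ρ (a * b) (w : V) = ρ a (ρ b w)
          rw [map_mul]; rfl) }
    let G : FormRep π2 R :=
      { χ := form
        scalar := fun u hu => ⟨((ν ⟨u, hu⟩ : ℂˣ) : ℂ), LinearMap.ext fun w => Subtype.ext (w.2.2 ⟨u, hu⟩)⟩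
        rel := fun a b => LinearMap.ext fun w => Subtype.ext (by
          show ρ a (ρ b w) = ((form a b : ℂˣ) : ℂ) • ρ b (ρ a w)
          rw [← Module.End.mul_apply, ← map_mul, show a * b = ⁅a, b⁆ * (b * a) by
            simp only [commutatorElement_def]; group, map_mul, Module.End.mul_apply, map_mul, Module.End.mul_apply]
          exact hW1 b _ (hW1 a _ w.2.1) ⟨_, hcc a b⟩)
        left_rad := fun u hu b => (hRmem u).1 hu b
        right_rad := fun a ha => (hRmem a).2 fun b => by rw [hflip, ha b, inv_one]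
        rad_right := fun u hu b => by rw [hflip, (hRmem u).1 hu, inv_one] }
    haveI := Fintype.ofFinite (Q ⧸ R)
    have hsq := G.finrank_sq (Nat.cast_ne_zero.2 Fintype.card_ne_zero)
    have hu := Nat.pos_of_ne_zero G.comm_ne_zero
    have hm : Fintype.card (Q ⧸ R) ≤ finrank ℂ V ^ 2 :=
      calc Fintype.card (Q ⧸ R) ≤ finrank ℂ W2 * finrank ℂ W2 := hsq ▸ Nat.le_mul_of_pos_right _ hu
        _ ≤ finrank ℂ V * finrank ℂ V := Nat.mul_le_mul (Submodule.finrank_le _) (Submodule.finrank_le _)
        _ = finrank ℂ V ^ 2 := (sq _).symm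
    refine lt_of_lt_of_le ?_ hm
    -- a regular orbit on the classes modulo the radical
    have ha₀ : a₀ ∉ R := fun h => hμ ((hform a₀ b₀).symm.trans ((hRmem a₀).1 h b₀))
    haveI := C.solv
    have hsemi : ∀ x : P, ((x • a₀ : Q) : Q ⧸ R) = a₀ → x = 1 := by
      intro x hx
      by_contra hx1
      refine ha₀ ?_
      haveI : Group.IsSolvable (Subgroup.zpowers x) := Group.isSolvable_of_comm fun u w => mul_comm' u w
      obtain ⟨c, hc, hce⟩ := Coprime.exists_fixed_mk_eq (A := Subgroup.zpowers x) (G := Q)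
        (C.cop.coprime_dvd_left (Subgroup.card_subgroup_dvd_card _)) R (fun y z hz => hRi y z hz) a₀ (fun y => by
          have hle : Subgroup.zpowers x ≤
              ({ carrier := {y | ((y • a₀ : Q) : Q ⧸ R) = a₀}
                 one_mem' := by simp
                 mul_mem' := fun {y y'} hy hy' => by
                  refine Eq.trans ?_ hy
                  rw [mul_smul]
                  exact QuotientGroup.eq.2 (by
                    rw [← smul_inv', ← smul_mul']; exact hRi y _ (QuotientGroup.eq.1 hy'))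
                 inv_mem' := fun {y} hy => by
                  refine (QuotientGroup.eq.2 ?_)
                  have h1 := hRi y⁻¹ _ (QuotientGroup.eq.1 (Eq.symm hy))
                  rw [smul_mul', smul_inv', inv_smul_smul] at h1
                  exact h1 } : Subgroup P) := Subgroup.zpowers_le.2 hx
          exact hle y.2)
      have hcR := hfixR c (C.semireg x hx1 c (hc ⟨x, Subgroup.mem_zpowers x⟩))
      rw [(QuotientGroup.eq_one_iff c).2 hcR] at hce
      exact (QuotientGroup.eq_one_iff a₀).1 hce.symm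
    let f : Option P → Q ⧸ R := fun o => o.elim 1 fun x => ((x • a₀ : Q) : Q ⧸ R)
    have hf : Function.Injective f := by
      have h1 : ∀ x : P, ((x • a₀ : Q) : Q ⧸ R) ≠ 1 := fun x h => ha₀ (by
        have h2 := hRi x⁻¹ _ ((QuotientGroup.eq_one_iff _).1 h)
        rwa [inv_smul_smul] at h2)
      rintro (_ | x) (_ | y) h
      · rfl
      · exact absurd h.symm (h1 y)
      · exact absurd h (h1 x)
      · refine congrArg some (inv_mul_eq_one.1 (hsemi (x⁻¹ * y) ?_))
        have h2 := hRi x⁻¹ _ (QuotientGroup.eq.1 (Eq.symm h))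
        rw [smul_mul', smul_inv', inv_smul_smul, ← mul_smul] at h2
        exact QuotientGroup.eq.2 h2
    have h1 := Nat.card_le_card_of_injective f hf
    rw [Finite.card_option, Nat.card_eq_fintype_card (α := Q ⧸ R)] at h1
    omega

end Config

end CfsgLib.TISylow
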